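import Groth.Agent.FFCurve.OmegaBC
import Groth.Agent.VarBC.Basic
import Groth.Agent.JacPts.PicPt
import Mathlib.CategoryTheory.Monoidal.Cartesian.Over

/-!
# A smooth proper connected curve which is a group scheme has genus one
-/

universe u

open CategoryTheory CategoryTheory.Limits MonoidalCategory CartesianMonoidalCategory MonObj
  GrpObj AlgebraicGeometry

set_option linter.style.haveILetI false
set_option backward.isDefEq.respectTransparency false

namespace Groth.Agent.Genus1

variable {k : Type u} [Field k] {X : Over (Spec (CommRingCat.of k))} [GrpObj X]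

/-- The shear map `(x, y) ↦ (x, x y)`. -/
noncomputable def shear : X ⊗ X ≅ X ⊗ X where
  hom := lift (fst X X) μ
  inv := lift (fst X X) ((fst X X)⁻¹ * snd X X)
  hom_inv_id := by
    apply CartesianMonoidalCategory.hom_ext
    · simp
    · simp [comp_mul, GrpObj.comp_inv, mul_eq_mul]
  inv_hom_id := by
    apply CartesianMonoidalCategory.hom_ext
    · simp
    · simp [comp_mul, mul_eq_mul]

lemma isPullback_mul : IsPullback (μ : X ⊗ X ⟶ X).left (fst X X).left X.hom X.hom := by
  have h : IsPullback (snd X X).left (fst X X).left X.hom X.hom :=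
    (IsPullback.of_hasPullback X.hom X.hom).flip
  refine h.of_iso ((Over.forget _).mapIso shear.symm) (Iso.refl _) (Iso.refl _) (Iso.refl _)
    ?_ ?_ ?_ ?_
  · have e : (shear.inv ≫ (μ : X ⊗ X ⟶ X)) = snd X X := by simp [shear, comp_mul, mul_eq_mul]
    simpa using (congrArg CommaMorphism.left e).symm
  · have e : shear.inv ≫ fst X X = fst X X := by simp [shear]
    simpa using (congrArg CommaMorphism.left e).symm
  · simp
  · simp

/-- The differentials of a group scheme over a field are the pullback of their restriction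
to the origin. -/
lemma nonempty_omega_iso [Smooth X.hom] [IsSeparated X.hom] [QuasiCompact X.hom]
    (hinv : PicF.IsInvertible (Omega.sheaf X.hom)) :
    Nonempty (Omega.sheaf X.hom ≅ Coh.structureModule X.left) := by
  have h1 : IsPullback (snd X X).left (fst X X).left X.hom X.hom :=
    (IsPullback.of_hasPullback X.hom X.hom).flip
  haveI : QuasiSeparated (fst X X).left :=
    MorphismProperty.of_isPullback h1 (inferInstance : QuasiSeparated X.hom)
  obtain ⟨a⟩ := Omega.SheafBC.nonempty_iso h1
  obtain ⟨b⟩ := Omega.SheafBC.nonempty_iso (isPullback_mul (X := X))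
  let s : X ⟶ X ⊗ X := lift (𝟙 X) (toUnit X ≫ η)
  have e1 : s.left ≫ (μ : X ⊗ X ⟶ X).left = 𝟙 X.left := by
    have e : s ≫ μ = 𝟙 X := by
      simp [s, mul_eq_mul, comp_mul, ← Hom.one_def]
    exact congrArg CommaMorphism.left e
  have e2 : s.left ≫ (snd X X).left = (toUnit X).left ≫ (η : 𝟙_ _ ⟶ X).left := by
    have e : s ≫ snd X X = toUnit X ≫ η := lift_snd _ _
    exact congrArg CommaMorphism.left e
  obtain ⟨c⟩ := JacPts.nonempty_iso_structure_of_field k
    (M := (Scheme.Modules.pullback (η : 𝟙_ (Over (Spec (CommRingCat.of k))) ⟶ X).left).obj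
      (Omega.sheaf X.hom)) (PicCl.isInvertible_pullback _ hinv)
  exact ⟨((Scheme.Modules.pullbackId _).app _).symm ≪≫
    (Scheme.Modules.pullbackCongr e1.symm).app _ ≪≫
    ((Scheme.Modules.pullbackComp s.left _).app _).symm ≪≫
    (Scheme.Modules.pullback s.left).mapIso (b ≪≫ a.symm) ≪≫
    (Scheme.Modules.pullbackComp s.left _).app _ ≪≫
    (Scheme.Modules.pullbackCongr e2).app _ ≪≫
    ((Scheme.Modules.pullbackComp (toUnit X).left _).app _).symm ≪≫
    (Scheme.Modules.pullback (toUnit X).left).mapIso c ≪≫
    QCoh.pullbackUnitIso (toUnit X).left⟩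

/-- A smooth proper connected one-dimensional group scheme over a field has genus one. -/
theorem genus_eq_one [IsProper X.hom] [Smooth X.hom] [ConnectedSpace X.left]
    (hdim : topologicalKrullDim X.left = 1) :
    @Curv2.genus k _ X.left ⟨X.hom⟩ = 1 := by
  letI : X.left.Over (Spec (CommRingCat.of k)) := ⟨X.hom⟩
  haveI : IsProper (X.left ↘ Spec (CommRingCat.of k)) := ‹IsProper X.hom›
  haveI : Smooth (X.left ↘ Spec (CommRingCat.of k)) := ‹Smooth X.hom›
  haveI : GeometricallyConnected (X.left ↘ Spec (CommRingCat.of k)) := by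
    refine VarBC.geometricallyConnected_of_point (κ := k) X.hom
      (η : 𝟙_ (Over (Spec (CommRingCat.of k))) ⟶ X).left ?_
      (eq_bot_iff.2 fun x _ => IntermediateField.mem_bot.2 ⟨x, rfl⟩)
    rw [Algebra.algebraMap_self, CommRingCat.ofHom_id, Spec.map_id]
    exact Over.w _
  have hinv : PicF.IsInvertible (Omega.sheaf X.hom) :=
    FFCurve.OmegaBC.isInvertible_omega k (X := X.left) hdim
  obtain ⟨e⟩ := nonempty_omega_iso hinv
  have h := (FFCurve.OmegaBC.finrank_and_deg k (X := X.left) hdim).2
  rw [EulerChar.deg_iso k (show Omega.sheaf (X.left ↘ Spec (CommRingCat.of k)) ≅ _ from e)] at h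
  simp only [Curv2.deg, Nat.cast_one, one_mul, sub_self] at h
  omega

end Groth.Agent.Genus1
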